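import Cfsg.Agent.H957.T5Main_m3
import Cfsg.Agent.FastGrp
import Cfsg.Agent.Prune
set_option linter.all false
prune_inst 0x7f00000000000000000000000000000000000000000000000000000000000000000000000000000000000000000000000000000000000000000000000000000000000000000000000000000000000000003fffffffffffffffffffffffffffbeffbdffffffff
open scoped Cfsg.Agent.FastGrp

/-!
# Own characteristic: the pairs of semilinear maps (MRow, `PSL_n(q)`, `p ∣ q`)
-/

set_option autoImplicit false

namespace Cfsg.Agent.H194.MOwn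

open Module Finset
open Cfsg.Agent.H957.T5V Cfsg.Agent.H957.T5Conf Cfsg.Agent.H957.T5Two Cfsg.Agent.H957.T5Semi
open Cfsg.Agent.H957.T5Num Cfsg.Agent.H957.T5Field Cfsg.Agent.H957.T5Lin
open Cfsg.Agent.H957.T5Pairs Cfsg.Agent.H957.T5Main

variable {F V : Type*} [Field F] [AddCommGroup V] [Module F V]
variable {p : ℕ} {σ τ : F ≃+* F} {c d : Equiv.Perm V}

theorem natCast_ne {p : ℕ} [CharP F p] {n : ℕ} (h : ¬ p ∣ n) : (n : F) ≠ 0 := by
  rwa [Ne, CharP.cast_eq_zero_iff F p]

theorem two_ne (hp5 : 5 ≤ p) [CharP F p] : (2 : F) ≠ 0 := by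
  have := natCast_ne (F := F) (p := p) (n := 2) (fun h => by have := Nat.le_of_dvd (by omega) h; omega)
  exact_mod_cast this

theorem three_ne (hp5 : 5 ≤ p) [CharP F p] : (3 : F) ≠ 0 := by
  have := natCast_ne (F := F) (p := p) (n := 3) (fun h => by have := Nat.le_of_dvd (by omega) h; omega)
  exact_mod_cast this

/-- `2 ^ (p ^ m) ≠ (2⁻¹) ^ (p ^ m)`. -/
theorem two_pow_ne [Fact p.Prime] [CharP F p] (hp5 : 5 ≤ p) (m : ℕ) :
    (2 : F) ^ p ^ m ≠ (2 : F)⁻¹ ^ p ^ m := by
  intro h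
  have h2 := two_ne (F := F) hp5
  have h1 := iterateFrobenius_inj F p m (show iterateFrobenius F p m 2 = iterateFrobenius F p m 2⁻¹ by
    rw [iterateFrobenius_def, iterateFrobenius_def]; exact h)
  have h3 : (2 : F) * 2 = 1 := by
    nth_rw 1 [h1]
    exact inv_mul_cancel₀ h2
  apply three_ne (F := F) hp5
  linear_combination h3

/-- A Jordan block of size 2 in a non-scalar linear map of order `p`. -/
theorem exists_jordan [Fact p.Prime] [CharP F p] (hc : Semi (1 : F ≃+* F) c) (hcp : c ^ p = 1)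
    (hcn : ¬ IsScal F c) : ∃ u1 u2 : V, LinearIndependent F ![u2, u1] ∧ c u1 = u1 ∧
      c u2 = u2 + u1 := by
  classical
  obtain ⟨f, hf, hfc⟩ := exists_end hc
  have hp : p.Prime := Fact.out
  have hfp : (f : End F V) ^ p = 1 := by
    ext v
    rw [pow_end hf, hcp]
    rfl
  set N : End F V := (f : End F V) - 1 with hN
  have hNp : N ^ p = 0 := by
    have : CharP (End F V) p := by
      rcases subsingleton_or_nontrivial V with h | h
      · exfalso
        apply hcn
        exact ⟨1, fun v => Subsingleton.elim _ _⟩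
      · exact charP_of_injective_algebraMap (FaithfulSMul.algebraMap_injective F (End F V)) p
    rw [hN, sub_pow_char_of_commute p (Commute.one_right _), hfp, one_pow, sub_self]
  have hN0 : N ≠ 0 := by
    intro h
    apply hcn
    refine ⟨1, fun v => ?_⟩
    have h1 : (f : End F V) = 1 := sub_eq_zero.1 h
    rw [one_smul, ← hf]
    exact congrArg (fun e : End F V => e v) h1
  have hex : ∃ k, N ^ k = 0 := ⟨p, hNp⟩
  set k := Nat.find hex with hk
  have hk0 : N ^ k = 0 := Nat.find_spec hex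
  have hk2 : 2 ≤ k := by
    by_contra hlt
    have hlt' : k = 0 ∨ k = 1 := by omega
    rcases hlt' with h | h
    · rw [h, pow_zero] at hk0
      apply hN0
      rw [← mul_one N, hk0, mul_zero]
    · rw [h, pow_one] at hk0
      exact hN0 hk0
  obtain ⟨j, hj⟩ : ∃ j, k = j + 2 := ⟨k - 2, by omega⟩
  have hk1 : N ^ (j + 1) ≠ 0 := Nat.find_min hex (by omega)
  obtain ⟨w, hw⟩ : ∃ w, (N ^ (j + 1)) w ≠ 0 := by
    by_contra hcon
    push Not at hcon
    exact hk1 (LinearMap.ext hcon)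
  have hcv : ∀ v, c v = v + N v := by
    intro v
    rw [← hf, hN]
    change f v = v + (f v - v)
    abel
  have e1 : N ((N ^ j) w) = (N ^ (j + 1)) w := by rw [pow_succ']; rfl
  have e2 : N ((N ^ (j + 1)) w) = 0 := by
    have : N ((N ^ (j + 1)) w) = (N ^ (j + 2)) w := by rw [pow_succ' N (j + 1)]; rfl
    rw [this, ← hj, hk0]
    rfl
  refine ⟨(N ^ (j + 1)) w, (N ^ j) w, ?_, ?_, ?_⟩
  · rw [li2_iff]
    intro x y h
    have h1 := congrArg N h
    rw [map_add, map_smul, map_smul, e1, e2, smul_zero, add_zero, map_zero] at h1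
    have hx : x = 0 := (smul_eq_zero.1 h1).resolve_right hw
    rw [hx, zero_smul, zero_add] at h
    exact ⟨hx, (smul_eq_zero.1 h).resolve_right hw⟩
  · rw [hcv, e2, add_zero]
  · rw [hcv, e1]

/-- **Two unipotent elements, dimension at least 3.** -/
theorem mp_uu_ge [FiniteDimensional F V] [Fact p.Prime] [CharP F p] (hp5 : 5 ≤ p)
    (hc : Semi (1 : F ≃+* F) c) (hd : Semi (1 : F ≃+* F) d) (hcp : c ^ p = 1) (hdp : d ^ p = 1)
    (hcn : ¬ IsScal F c) (hdn : ¬ IsScal F d) (hn : 2 < finrank F V) : MP F p c d := by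
  obtain ⟨u1, u2, hli, h1, h2⟩ := exists_jordan hc hcp hcn
  obtain ⟨v1, v2, hli', h1', h2'⟩ := exists_jordan hd hdp hdn
  have hα0 := two_ne (F := F) hp5
  refine mp_E11 (u := v2) (v := u2 + u1) (w := u2) (T := 2) (T' := 2) (α := 2) hc hd ?_ h2 ?_ ?_ ?_
    hα0 (two_pow_ne hp5) (Or.inl hn)
  · rw [li2_iff] at hli ⊢
    intro x y h
    obtain ⟨h3, h4⟩ := hli (x + y) x (by rw [← h]; module)
    subst h4
    exact ⟨rfl, by simpa using h3⟩
  · rw [hc.add, h1, h2]; module
  · rw [h2']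
    rw [li2_iff] at hli' ⊢
    intro x y h
    obtain ⟨h3, h4⟩ := hli' (x + y) y (by rw [← h]; module)
    subst h4
    exact ⟨by simpa using h3, rfl⟩
  · rw [h2', hd.add, h1', h2']; module

/-- A linear map `x` of determinant `1` of a plane with `x² = T x - 1`, `T² ≠ 4`. -/
theorem not_scal_trace [FiniteDimensional F V] [Fact p.Prime] [CharP F p] {x : V ≃ₗ[F] V}
    (hn : finrank F V = 2) (hdet : LinearEquiv.det x = 1) {T : F}
    (hx : ∀ v, x (x v) = T • x v - v) (hT : T ^ 2 ≠ 4) (m : ℕ) : ¬ IsScal F ((toA x) ^ p ^ m) := by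
  classical
  rintro ⟨a, ha⟩
  have hV : Nontrivial V := nontrivial_of_finrank_pos (R := F) (by omega)
  have : CharP (End F V) p :=
    charP_of_injective_algebraMap (FaithfulSMul.algebraMap_injective F (End F V)) p
  have hXa : (x : End F V) ^ p ^ m = algebraMap F (End F V) a := by
    ext v
    rw [pow_end (f := x) (c := toA x) (fun _ => rfl), ha, Module.algebraMap_end_apply]
  -- the determinant
  have ha2 : a ^ 2 = 1 := by
    have h1 : LinearMap.det ((x : End F V) ^ p ^ m) = 1 := by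
      rw [map_pow]
      have : LinearMap.det (x : End F V) = 1 := by
        rw [← LinearEquiv.coe_det, hdet, Units.val_one]
      rw [this, one_pow]
    rw [hXa] at h1
    have h2 : LinearMap.det (algebraMap F (End F V) a) = a ^ finrank F V := by
      rw [Algebra.algebraMap_eq_smul_one, LinearMap.det_smul, map_one, mul_one]
    rw [h2, hn] at h1
    exact h1
  set X : End F V := (x : End F V) with hX
  set t : End F V := algebraMap F (End F V) T with ht
  have hXt : Commute X t := (Algebra.commutes T X).symm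
  have hXY : X * (t - X) = 1 := by
    ext v
    rw [Module.End.mul_apply, LinearMap.sub_apply, map_sub, ht, Module.algebraMap_end_apply, map_smul]
    change T • x v - x (x v) = v
    rw [hx]
    abel
  have hcomm : Commute X (t - X) := hXt.sub_right (Commute.refl X)
  have h1 : (X * (t - X)) ^ p ^ m = X ^ p ^ m * (t - X) ^ p ^ m := hcomm.mul_pow _
  rw [hXY, one_pow, hXa] at h1
  have h2 : (X + (t - X)) ^ p ^ m = X ^ p ^ m + (t - X) ^ p ^ m :=
    add_pow_char_pow_of_commute p m hcomm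
  rw [add_sub_cancel, hXa] at h2
  have h3 : algebraMap F (End F V) a * algebraMap F (End F V) a = 1 := by
    rw [← map_mul, ← pow_two, ha2, map_one]
  have h4 : (t - X) ^ p ^ m = algebraMap F (End F V) a := by
    calc (t - X) ^ p ^ m = 1 * (t - X) ^ p ^ m := (one_mul _).symm
      _ = (algebraMap F (End F V) a * algebraMap F (End F V) a) * (t - X) ^ p ^ m := by rw [h3]
      _ = algebraMap F (End F V) a * (algebraMap F (End F V) a * (t - X) ^ p ^ m) := mul_assoc _ _ _
      _ = _ := by rw [← h1, mul_one]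
  rw [h4, ht, ← map_pow, ← map_add] at h2
  have h5 : T ^ p ^ m = a + a := FaithfulSMul.algebraMap_injective F (End F V) h2
  have h6 : (T ^ 2) ^ p ^ m = 4 := by
    rw [← pow_mul, mul_comm, pow_mul, h5]
    linear_combination 4 * ha2
  have h7 : (4 : F) ^ p ^ m = 4 := by
    have : iterateFrobenius F p m 4 = 4 := by
      rw [show (4 : F) = ((4 : ℕ) : F) by norm_cast]
      exact map_natCast _ _
    rwa [iterateFrobenius_def] at this
  apply hT
  apply iterateFrobenius_inj F p m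
  rw [iterateFrobenius_def, iterateFrobenius_def, h6, h7]

/-- **Two unipotent elements, dimension 2.** -/
theorem mp_uu_two [Finite F] [FiniteDimensional F V] [Fact p.Prime] [CharP F p] (hp5 : 5 ≤ p)
    (hc : Semi (1 : F ≃+* F) c) (hd : Semi (1 : F ≃+* F) d) (hcp : c ^ p = 1) (hdp : d ^ p = 1)
    (hcn : ¬ IsScal F c) (hdn : ¬ IsScal F d) (hn : finrank F V = 2) : MP F p c d := by
  classical
  obtain ⟨u1, u2, hli, h1, h2⟩ := exists_jordan hc hcp hcn
  obtain ⟨v1, v2, hli', h1', h2'⟩ := exists_jordan hd hdp hdn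
  obtain ⟨g0, hg0⟩ := Cfsg.Agent.H105.exists_equiv_of_indep hli' hli
  have hg02 : g0 v2 = u2 := hg0 0
  have hg01 : g0 v1 = u1 := hg0 1
  set κ : F := ((LinearEquiv.det g0 : Fˣ) : F) with hκ
  have hκ0 : κ ≠ 0 := (LinearEquiv.det g0).ne_zero
  have h2F := two_ne (F := F) hp5
  have h3F := three_ne (F := F) hp5
  obtain ⟨a, ha0, ha⟩ : ∃ a : F, a ≠ 0 ∧ κ * a ^ 2 ≠ 4 := by
    by_cases h : κ = 4
    · refine ⟨2, h2F, ?_⟩
      rw [h]
      intro h5
      apply mul_ne_zero (mul_ne_zero h2F h2F) h3F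
      linear_combination h5
    · exact ⟨1, one_ne_zero, by simpa using h⟩
  -- the map `h`: `u1 ↦ a u2`, `u2 ↦ e u1`
  set e : F := -(a * κ)⁻¹ with he
  have he0 : e ≠ 0 := neg_ne_zero.2 (inv_ne_zero (mul_ne_zero ha0 hκ0))
  let b : Basis (Fin 2) F V := basisOfLinearIndependentOfCardEqFinrank hli (by simp [hn])
  have hb : ⇑b = ![u2, u1] := coe_basisOfLinearIndependentOfCardEqFinrank _ _
  have hb0 : b 0 = u2 := by rw [hb]; rfl
  have hb1 : b 1 = u1 := by rw [hb]; rfl
  let M : Matrix (Fin 2) (Fin 2) F := !![0, a; e, 0]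
  have hM : M.det = κ⁻¹ := by
    rw [Matrix.det_fin_two_of, he]
    field_simp
    ring
  have hdet : LinearMap.det (Matrix.toLin b b M) = κ⁻¹ := by
    rw [LinearMap.det_toLin, hM]
  have hdet0 : LinearMap.det (Matrix.toLin b b M) ≠ 0 := by
    rw [hdet]
    exact inv_ne_zero hκ0
  let h : V ≃ₗ[F] V := LinearMap.equivOfDetNeZero _ hdet0
  have hh : ∀ v, h v = Matrix.toLin b b M v := fun v => rfl
  have hh2 : h u2 = e • u1 := by
    rw [hh, ← hb0, Matrix.toLin_self, Fin.sum_univ_two, hb0, hb1]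
    simp [M]
  have hh1 : h u1 = a • u2 := by
    rw [hh, ← hb1, Matrix.toLin_self, Fin.sum_univ_two, hb0, hb1]
    simp [M]
  have hdeth : LinearEquiv.det (h * g0) = 1 := by
    rw [map_mul]
    apply Units.ext
    rw [Units.val_mul, LinearEquiv.coe_det, Units.val_one]
    have h3 : ((h : V ≃ₗ[F] V) : V →ₗ[F] V) = Matrix.toLin b b M := by
      ext v; rfl
    rw [h3, hdet, ← hκ, inv_mul_cancel₀ hκ0]
  refine ⟨h * g0, hdeth, 1, 1, fun m => ?_⟩
  rw [pow_one, pow_one]
  obtain ⟨fc, hfc, hfc'⟩ := exists_end hc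
  obtain ⟨fd, hfd, hfd'⟩ := exists_end hd
  have hdet1 : ∀ (f : V ≃ₗ[F] V), (toA f) ^ p = 1 → LinearEquiv.det f = 1 := by
    intro f hf
    have h3 : f ^ p = 1 := toA_injective (by rw [map_pow, hf, map_one])
    have h4 : ((LinearEquiv.det f : Fˣ) : F) ^ p = 1 := by
      rw [← Units.val_pow_eq_pow_val, ← map_pow, h3, map_one, Units.val_one]
    apply Units.ext
    apply frobenius_inj F p
    rw [frobenius_def, frobenius_def, h4, Units.val_one, one_pow]
  set x : V ≃ₗ[F] V := fc * ((h * g0) * fd * (h * g0)⁻¹) with hx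
  have hxA' : ∀ g : V ≃ₗ[F] V, c * (toA g * d * (toA g)⁻¹) = toA (fc * (g * fd * g⁻¹)) := by
    intro g
    rw [map_mul, map_mul, map_mul, map_inv, hfc', hfd']
  have hxA : c * (toA (h * g0) * d * (toA (h * g0))⁻¹) = toA x := hxA' _
  rw [hxA]
  have hg1 : (h * g0) v1 = a • u2 := by
    change h (g0 v1) = a • u2
    rw [hg01, hh1]
  have hg2 : (h * g0) v2 = e • u1 := by
    change h (g0 v2) = e • u1
    rw [hg02, hh2]
  set g := h * g0 with hgdef
  have hd1 : (g * fd * g⁻¹) (g v1) = g v1 := by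
    change g (fd (g⁻¹ (g v1))) = g v1
    rw [show g⁻¹ (g v1) = v1 from g.symm_apply_apply v1, hfd, h1']
  have hd2 : (g * fd * g⁻¹) (g v2) = g v2 + g v1 := by
    change g (fd (g⁻¹ (g v2))) = g v2 + g v1
    rw [show g⁻¹ (g v2) = v2 from g.symm_apply_apply v2, hfd, h2', map_add]
  rw [hg1] at hd1 hd2
  rw [hg2] at hd2
  have hd3 : (g * fd * g⁻¹) u2 = u2 := by
    rw [map_smul] at hd1
    exact smul_right_injective V ha0 hd1
  have hd4 : (g * fd * g⁻¹) u1 = u1 + (a * e⁻¹) • u2 := by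
    rw [map_smul] at hd2
    have := congrArg (fun w => e⁻¹ • w) hd2
    simp only [smul_add, smul_smul, inv_mul_cancel₀ he0, one_smul] at this
    rw [this, mul_comm]
  set s : F := a * e⁻¹ with hs
  have hsv : s = -(κ * a ^ 2) := by
    rw [hs, he]
    field_simp
  have hx2 : x u2 = u2 + u1 := by
    change fc ((g * fd * g⁻¹) u2) = u2 + u1
    rw [hd3, hfc, h2]
  have hx1 : x u1 = (1 + s) • u1 + s • u2 := by
    change fc ((g * fd * g⁻¹) u1) = _
    rw [hd4, map_add, map_smul, hfc, hfc, h1, h2]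
    module
  refine not_scal_trace hn ?_ (T := 2 + s) ?_ ?_ m
  · rw [hx, map_mul, map_mul, map_mul, hdet1 fc (by rw [hfc', hcp]), hdet1 fd (by rw [hfd', hdp]), map_inv]
    simp
  · intro v
    have e2 : x (x u2) = (2 + s) • x u2 - u2 := by
      rw [hx2, map_add, hx2, hx1]
      module
    have e1 : x (x u1) = (2 + s) • x u1 - u1 := by
      have e3 : x ((1 + s) • u1 + s • u2) = (1 + s) • x u1 + s • x u2 := by
        rw [map_add, map_smul, map_smul]
      rw [hx1, e3, hx2, hx1]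
      module
    have e0 : v = (b.repr v 0) • u2 + (b.repr v 1) • u1 := by
      conv_lhs => rw [← b.sum_repr v, Fin.sum_univ_two, hb0, hb1]
    rw [e0, map_add, map_smul, map_smul, map_add, map_smul, map_smul, e1, e2]
    module
  · rw [hsv]
    intro h5
    have h6 : (κ * a ^ 2) * (κ * a ^ 2 - 4) = 0 := by linear_combination h5
    rcases mul_eq_zero.1 h6 with h7 | h7
    · exact mul_ne_zero hκ0 (pow_ne_zero 2 ha0) h7
    · exact ha (sub_eq_zero.1 h7)

theorem det_smulOfUnit [FiniteDimensional F V] (s : Fˣ) :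
    LinearEquiv.det (LinearEquiv.smulOfUnit s : V ≃ₗ[F] V) = s ^ finrank F V := by
  apply Units.ext
  rw [LinearEquiv.coe_det, Units.val_pow_eq_pow_val]
  have : ((LinearEquiv.smulOfUnit s : V ≃ₗ[F] V) : V →ₗ[F] V) = (s : F) • LinearMap.id := by
    ext v; rfl
  rw [this, LinearMap.det_smul, LinearMap.det_id, mul_one]

/-- From `GL(V)`-conjugates to `SL(V)`-conjugates, if the centraliser of `c` and the scalars have
every determinant. -/
theorem toMP_scal [FiniteDimensional F V] (hd : Semi (1 : F ≃+* F) d) (h : MPG F p c d)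
    (hz : ∀ δ : Fˣ, ∃ (z : V ≃ₗ[F] V) (s : Fˣ), toA z * c = c * toA z ∧
      LinearEquiv.det z * s ^ finrank F V = δ) : MP F p c d := by
  obtain ⟨g, i, j, h⟩ := h
  obtain ⟨z, s, hzc, hdet⟩ := hz ((LinearEquiv.det g)⁻¹)
  obtain ⟨fd, hfd, hfd'⟩ := exists_end hd
  have hcomm : ∀ f : V ≃ₗ[F] V, Commute (LinearEquiv.smulOfUnit s : V ≃ₗ[F] V) f := by
    intro f
    ext v
    change (s : F) • f v = f ((s : F) • v)
    rw [map_smul]
  refine ⟨LinearEquiv.smulOfUnit s * (z * g), ?_, i, j, fun k hk => h k ?_⟩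
  · rw [map_mul, map_mul, det_smulOfUnit, mul_comm, mul_right_comm, hdet, inv_mul_cancel]
  · have e1 : toA (LinearEquiv.smulOfUnit s * (z * g)) * d *
        (toA (LinearEquiv.smulOfUnit s * (z * g)))⁻¹ =
        toA z * (toA g * d * (toA g)⁻¹) * (toA z)⁻¹ := by
      rw [← hfd', ← map_inv, ← map_mul, ← map_mul, ← map_inv, ← map_mul, ← map_mul, ← map_inv,
        ← map_mul, ← map_mul]
      congr 1
      have h1 : LinearEquiv.smulOfUnit s * (z * g) * fd * (LinearEquiv.smulOfUnit s * (z * g))⁻¹ =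
          LinearEquiv.smulOfUnit s * (z * g * fd * (z * g)⁻¹) * (LinearEquiv.smulOfUnit s)⁻¹ := by
        group
      rw [h1, (hcomm _).eq]
      group
    have e2 : c ^ i = toA z * c ^ i * (toA z)⁻¹ := by
      have h1 : Commute (toA z) (c ^ i) := (show Commute (toA z) c from hzc).pow_right i
      rw [h1.eq, mul_inv_cancel_right]
    rw [e1, conj_pow, e2] at hk
    have e3 : toA z * c ^ i * (toA z)⁻¹ * (toA z * (toA g * d * (toA g)⁻¹) ^ j * (toA z)⁻¹) =
        toA z * (c ^ i * (toA g * d * (toA g)⁻¹) ^ j) * (toA z)⁻¹ := by group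
    rw [e3, conj_pow] at hk
    have h2 := isScal_conj (semi_toA z).inv hk
    have e4 : (toA z)⁻¹ * (toA z * (c ^ i * (toA g * d * (toA g)⁻¹) ^ j) ^ p ^ k * (toA z)⁻¹) *
        (toA z)⁻¹⁻¹ = (c ^ i * (toA g * d * (toA g)⁻¹) ^ j) ^ p ^ k := by group
    rwa [e4] at h2

/-- The centraliser of a field automorphism of a plane. -/
theorem det_field [Finite F] [FiniteDimensional F V] [Fact p.Prime] (hp5 : 5 ≤ p)
    (hc : Semi σ c) (hσ : orderOf σ = p) {e1 e2 : V} (hli : LinearIndependent F ![e1, e2])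
    (hc1 : c e1 = e1) (hc2 : c e2 = e2) (hn : finrank F V = 2) (δ : Fˣ) :
    ∃ (z : V ≃ₗ[F] V) (s : Fˣ), toA z * c = c * toA z ∧
      LinearEquiv.det z * s ^ finrank F V = δ := by
  obtain ⟨a, φ, ha, hφ, hσa, haφ⟩ := exists_fixed_mul_sq (Fact.out : p.Prime) (by omega) hσ
    (μ := (δ : F)) δ.ne_zero
  let b : Basis (Fin 2) F V := basisOfLinearIndependentOfCardEqFinrank hli (by simp [hn])
  have hb : ⇑b = ![e1, e2] := coe_basisOfLinearIndependentOfCardEqFinrank _ _
  have hb0 : b 0 = e1 := by rw [hb]; rfl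
  have hb1 : b 1 = e2 := by rw [hb]; rfl
  let M : Matrix (Fin 2) (Fin 2) F := !![a, 0; 0, 1]
  have hM : M.det = a := by
    rw [Matrix.det_fin_two_of]
    ring
  have hdet : LinearMap.det (Matrix.toLin b b M) = a := by
    rw [LinearMap.det_toLin, hM]
  let z : V ≃ₗ[F] V := LinearMap.equivOfDetNeZero _ (by rw [hdet]; exact ha : _ ≠ (0 : F))
  have hh : ∀ v, z v = Matrix.toLin b b M v := fun v => rfl
  have hz1 : z e1 = a • e1 := by
    rw [hh, ← hb0, Matrix.toLin_self, Fin.sum_univ_two, hb0, hb1]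
    simp [M]
  have hz2 : z e2 = e2 := by
    rw [hh, ← hb1, Matrix.toLin_self, Fin.sum_univ_two, hb0, hb1]
    simp [M]
  refine ⟨z, Units.mk0 φ hφ, ?_, ?_⟩
  · ext v
    rw [Equiv.Perm.mul_apply, Equiv.Perm.mul_apply, toA_apply, toA_apply]
    have e0 : v = (b.repr v 0) • e1 + (b.repr v 1) • e2 := by
      conv_lhs => rw [← b.sum_repr v, Fin.sum_univ_two, hb0, hb1]
    rw [e0, hc.add, hc.smul, hc.smul, hc1, hc2, map_add, map_smul, map_smul, map_add, map_smul,
      map_smul, hz1, hz2, hc.add, hc.smul, hc.smul, hc.smul, hc1, hc2, hσa]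
  · rw [hn]
    apply Units.ext
    rw [Units.val_mul, LinearEquiv.coe_det, Units.val_pow_eq_pow_val, Units.val_mk0, ← haφ]
    congr 1

theorem exists_two_vec {n : ℕ} {b : Fin n → V} (hb : LinearIndependent F b) (h2 : n = 2) :
    ∃ e1 e2 : V, LinearIndependent F ![e1, e2] ∧ (∃ i, e1 = b i) ∧ (∃ i, e2 = b i) := by
  subst h2
  refine ⟨b 0, b 1, ?_, ⟨0, rfl⟩, ⟨1, rfl⟩⟩
  have : b = ![b 0, b 1] := by
    funext i; fin_cases i <;> rfl
  rwa [← this]

/-- **Field automorphism against unipotent.** -/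
theorem mp_fu [Finite F] [FiniteDimensional F V] [Fact p.Prime] [CharP F p] (hp5 : 5 ≤ p)
    (hn : 2 ≤ finrank F V) (hc : Semi σ c) (hσ : orderOf σ = p) (hd : Semi (1 : F ≃+* F) d)
    (hcp : c ^ p = 1) (hdp : d ^ p = 1) (hdn : ¬ IsScal F d) : MP F p c d := by
  have hp : p.Prime := Fact.out
  obtain ⟨v1, v2, hli', h1', h2'⟩ := exists_jordan hd hdp hdn
  obtain ⟨b, hb, hbc⟩ := exists_fixed_basis hp.pos hc hσ hcp hn
  obtain ⟨t, ht⟩ := exists_t hp hσ
  obtain ⟨e1, e2, hli, ⟨i1, hi1⟩, ⟨i2, hi2⟩⟩ := exists_two_vec hb rfl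
  have hc1 : c e1 = e1 := by rw [hi1, hbc]
  have hc2 : c e2 = e2 := by rw [hi2, hbc]
  have hα0 := two_ne (F := F) hp5
  have hασ : σ 2 = 2 := by
    rw [show (2 : F) = ((2 : ℕ) : F) by norm_cast, map_natCast]
  have hliu : LinearIndependent F ![v2, d v2] := by
    rw [h2']
    rw [li2_iff] at hli' ⊢
    intro x y h
    obtain ⟨h3, h4⟩ := hli' (x + y) y (by rw [← h]; module)
    subst h4
    exact ⟨by simpa using h3, rfl⟩
  have hu : d (d v2) = (2 : F) • d v2 - v2 := by
    rw [h2', hd.add, h1', h2']; module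
  rcases hn.lt_or_eq with hlt | heq
  · exact mp_E31 (α := 2) hc hd (by rw [← hσ, pow_orderOf_eq_one]) hli hc1 hc2 ht hliu hu hα0 hασ
      (two_pow_ne hp5) (Or.inl hlt)
  · refine toMP_scal hd ?_ (det_field hp5 hc hσ hli hc1 hc2 heq.symm)
    -- a copy of the computation of `mp_E31`
    obtain ⟨s, hs⟩ := σ.surjective t
    have hts : t ≠ s := by
      rintro h
      apply ht
      rw [h, hs, h]
    have hε : t - s ≠ 0 := sub_ne_zero.2 hts
    have hli2 := li_t hli hts
    have hli3 : LinearIndependent F ![e1 + t • e2, (2 : F) • (e1 + s • e2)] := by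
      rw [li2_iff] at hli2 ⊢
      intro x y h
      obtain ⟨h1, h2⟩ := hli2 x (y * 2) (by rw [← h, smul_smul])
      exact ⟨h1, (mul_eq_zero.1 h2).resolve_right hα0⟩
    have hw : c (e1 + s • e2) = e1 + t • e2 := by rw [hc.add, hc.smul, hc1, hc2, hs]
    have hv : c (e1 + t • e2) = ((σ t - s) * (t - s)⁻¹) • (e1 + t • e2)
        - ((σ t - t) * (t - s)⁻¹) • (e1 + s • e2) := by
      rw [hc.add, hc.smul, hc1, hc2]
      have h1 : (σ t - s) * (t - s)⁻¹ - (σ t - t) * (t - s)⁻¹ = 1 := by field_simp; ring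
      have h2 : (σ t - s) * (t - s)⁻¹ * t - (σ t - t) * (t - s)⁻¹ * s = σ t := by field_simp; ring
      calc e1 + σ t • e2 = (1 : F) • e1 + σ t • e2 := by rw [one_smul]
        _ = ((σ t - s) * (t - s)⁻¹ - (σ t - t) * (t - s)⁻¹) • e1
            + ((σ t - s) * (t - s)⁻¹ * t - (σ t - t) * (t - s)⁻¹ * s) • e2 := by rw [h1, h2]
        _ = _ := by module
    obtain ⟨g, hg⟩ := Cfsg.Agent.H105.exists_equiv_of_indep hliu hli3
    refine ⟨g, 1, 1, fun m => ?_⟩
    rw [pow_one, pow_one]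
    have hd' : ∀ x, (toA g * d * (toA g)⁻¹) (g x) = g (d x) := by
      intro x
      rw [Equiv.Perm.mul_apply, Equiv.Perm.mul_apply, toA_inv_apply, toA_apply]
    obtain ⟨h1, h2⟩ := calc_td (u := v2) (T' := 2) (D' := 1) hc hd hd' hα0
      (by rw [hu, one_smul]) hw hv (hg 0) (hg 1)
    have hx : Semi σ (c * (toA g * d * (toA g)⁻¹)) := by
      have := hc.mul (semi_of_conj hd hd')
      rwa [mul_one] at this
    rw [map_one, mul_one, hασ] at h2
    rw [hασ] at h1
    refine not_scal_of_pow ?_ m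
    intro m
    obtain ⟨k, hk⟩ := pow_tri hx h1 h2 p
    have hk0 := pow_eigen hx h1 p
    have hσp : σ ^ p = 1 := by rw [← hσ, pow_orderOf_eq_one]
    refine not_scal_tri (scal_pow_p hx hσp) hli2 hk0 hk ?_
    have h3 : nm σ ((σ t - t) * (t - s)⁻¹) p = 1 := by
      have : σ t - t = σ (t - s) := by rw [map_sub, hs]
      rw [this]
      exact nm_div_self hσp hε
    rw [nm_one, nm_one, nm_mul, h3, mul_one, nm_inv, nm_fixed hασ, ← inv_pow, ← pow_mul, ← pow_mul,
      ← pow_succ']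
    exact two_pow_ne hp5 (m + 1)

/-- **The pairs in own characteristic.** -/
theorem mp_own [Finite F] [FiniteDimensional F V] [Fact p.Prime] [CharP F p] (hp5 : 5 ≤ p)
    (hn : 2 ≤ finrank F V) (hc : Semi σ c) (hcp : IsScal F (c ^ p))
    (hcn : ¬ IsScal F c) (hd : Semi τ d) (hdp : IsScal F (d ^ p)) (hdn : ¬ IsScal F d) :
    MP F p c d := by
  have hp : p.Prime := Fact.out
  have : Nontrivial V := nontrivial_of_finrank_pos (R := F) (by omega)
  have hq : ¬ p ∣ Nat.card F - 1 := by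
    intro h
    have h1 : p ∣ Nat.card F := by
      have : Fintype F := Fintype.ofFinite F
      obtain ⟨n, -, hn⟩ := FiniteField.card F p
      rw [Nat.card_eq_fintype_card, hn]
      exact dvd_pow_self _ n.ne_zero
    have h2 : 0 < Nat.card F := Nat.card_pos
    have h3 : p ∣ 1 := by
      have := (Nat.dvd_sub h1 h)
      rwa [Nat.sub_sub_self h2] at this
    exact hp.one_lt.ne' (Nat.dvd_one.1 h3)
  obtain ⟨s, hs⟩ := exists_nf hp hp5 hc hcp
  obtain ⟨t, ht⟩ := exists_nf hp hp5 hd hdp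
  refine MP.of_scl hc hd (scl_smulA s c) (scl_smulA t d) ?_
  have hcn' := not_isScal_smulA (s := s) hcn
  have hdn' := not_isScal_smulA (s := t) hdn
  have hc' := hc.smulA s
  have hd' := hd.smulA t
  rcases hs with ⟨rfl, hs⟩ | ⟨rfl, hs, hq'⟩ | ⟨ho, hs⟩
  · rcases ht with ⟨rfl, ht⟩ | ⟨rfl, ht, hq'⟩ | ⟨ho', ht⟩
    · rcases hn.lt_or_eq with hlt | heq
      · exact mp_uu_ge hp5 hc' hd' hs ht hcn' hdn' hlt
      · exact mp_uu_two hp5 hc' hd' hs ht hcn' hdn' heq.symm
    · exact absurd hq' hq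
    · exact MP.symm hd' (mp_fu hp5 hn hd' ho' hc' ht hs hcn')
  · exact absurd hq' hq
  · rcases ht with ⟨rfl, ht⟩ | ⟨rfl, ht, hq'⟩ | ⟨ho', ht⟩
    · exact mp_fu hp5 hn hc' ho hd' hs ht hdn'
    · exact absurd hq' hq
    · exact mp_33 hp hp5 hn hc' ho hd' ho' hs ht

end Cfsg.Agent.H194.MOwn
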